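import Cfsg.Agent.M24Orbits.Elements
import Cfsg.Agent.Golay.Mathieu
import Mathlib.GroupTheory.Perm.Cycle.Type

/-!
# Elements of prime order and centralisers of involutions in M₂₂
-/

set_option autoImplicit false
set_option linter.unusedSectionVars false
set_option linter.style.haveILetI false
set_option maxRecDepth 4000

namespace Cfsg.Agent.FGS4.SingleBlock.M22

open Cfsg Cfsg.Agent Cfsg.Agent.Golay Cfsg.Agent.M24Orbits

/-- The fixed points of a permutation. -/
def fixOf (g : Equiv.Perm GolayPt) : Finset GolayPt := Finset.univ.filter fun p => g p = p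

theorem mem_fixOf {g : Equiv.Perm GolayPt} {p : GolayPt} : p ∈ fixOf g ↔ g p = p := by
  simp [fixOf]

theorem mem_M22 {g : Equiv.Perm GolayPt} :
    g ∈ Spor.M22 ↔ g ∈ M24 ∧ g none = none ∧ g (some 0) = some 0 :=
  ⟨fun h => ⟨h.1.1, h.1.2, h.2⟩, fun h => ⟨⟨h.1, h.2.1⟩, h.2.2⟩⟩

theorem fixOf_subset_pow (g : Equiv.Perm GolayPt) (n : ℕ) : fixOf g ⊆ fixOf (g ^ n) := fun p hp =>
  mem_fixOf.2 (Function.IsFixedPt.perm_pow (mem_fixOf.1 hp) n)

theorem card_fixOf_conj (h σ : Equiv.Perm GolayPt) :
    (fixOf (h * σ * h⁻¹)).card = (fixOf σ).card := filter_fix_conj h σ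

theorem M22_card : Nat.card Spor.M22 = 443520 := spor_M22_card

/-- Codes of elements of order five, seven and eleven. -/
def repCode (p : ℕ) : ℕ :=
  if p = 5 then 984028262493036110288127485018678464
  else if p = 7 then 973137586519228812984725670520201376
  else 981713052612566772572142634082256064

/-- The number of fixed points of an element of given prime order. -/
def fixNum (q : ℕ) : ℕ :=
  if q = 2 then 8 else if q = 3 then 6 else if q = 5 then 4 else if q = 7 then 3 else 2

/-- The check on a representative of prime order. -/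
def repOK (p : ℕ) : Bool :=
  isAut (repCode p) && app (repCode p) 23 == 23 && app (repCode p) 0 == 0 &&
    (fixPts (repCode p)).card == fixNum p &&
    (List.range 24).all fun i => (fun j => app (repCode p) j)^[p] i == i

theorem repOK_all : ∀ p ∈ [5, 7, 11], repOK p = true := by decide +kernel

theorem permOf_none {c : ℕ} (h : permOK c = true) (h23 : app c 23 = 23) :
    permOf c none = none := idx_injective (by rw [idx_permOf h]; exact h23)

theorem permOf_zero {c : ℕ} (h : permOK c = true) (h0 : app c 0 = 0) :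
    permOf c (some 0) = some 0 := idx_injective (by rw [idx_permOf h]; exact h0)

/-- The number of points fixed by an element of order five, seven or eleven. -/
theorem fix_card_large {p : ℕ} (hp5 : p ∈ [5, 7, 11]) {g : Spor.M22} (hg : orderOf g = p) :
    (fixOf g.1).card = fixNum p := by
  haveI : Fact p.Prime := ⟨by simp at hp5; rcases hp5 with rfl | rfl | rfl <;> norm_num⟩
  have h := repOK_all p hp5
  simp only [repOK, Bool.and_eq_true, List.all_eq_true, beq_iff_eq, List.mem_range] at h
  obtain ⟨⟨⟨⟨hA, h23⟩, h0⟩, hfix⟩, hord⟩ := h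
  have hok := permOK_of_isAut hA
  let c : Spor.M22 := ⟨permOf (repCode p),
    mem_M22.2 ⟨permOf_mem_M24 hA, permOf_none hok h23, permOf_zero hok h0⟩⟩
  have hcfix : (fixOf c.1).card = fixNum p := by
    rw [← hfix, ← filter_fix hok]; rfl
  have hc1 : c ≠ 1 := fun e => by
    rw [e] at hcfix
    have : fixOf ((1 : Spor.M22) : Equiv.Perm GolayPt) = Finset.univ := by ext; simp [mem_fixOf]
    rw [this, Finset.card_univ, card_golayPt] at hcfix
    simp at hp5
    rcases hp5 with rfl | rfl | rfl <;> simp [fixNum] at hcfix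
  have hcp : orderOf c = p := by
    refine orderOf_eq_prime (Subtype.ext (Equiv.ext fun y => idx_injective ?_)) hc1
    rw [SubmonoidClass.coe_pow, Equiv.Perm.coe_pow]
    show idx ((⇑(permOf (repCode p)))^[p] y) = idx y
    have hsemi : Function.Semiconj idx (⇑(permOf (repCode p))) (fun j => app (repCode p) j) :=
      fun z => idx_permOf hok z
    rw [(hsemi.iterate_right p).eq]
    exact hord _ (idx_lt y)
  have hfac : p ^ (Nat.card Spor.M22).factorization p = p := by
    rw [M22_card]
    conv_rhs => rw [← pow_one p]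
    congr 1
    simp at hp5
    rcases hp5 with rfl | rfl | rfl
    · rw [show (443520 : ℕ) = 5 * 88704 by norm_num, Nat.factorization_mul (by norm_num) (by norm_num),
        Finsupp.add_apply, (by norm_num : Nat.Prime 5).factorization_self,
        Nat.factorization_eq_zero_of_not_dvd (by norm_num)]
    · rw [show (443520 : ℕ) = 7 * 63360 by norm_num, Nat.factorization_mul (by norm_num) (by norm_num),
        Finsupp.add_apply, (by norm_num : Nat.Prime 7).factorization_self,
        Nat.factorization_eq_zero_of_not_dvd (by norm_num)]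
    · rw [show (443520 : ℕ) = 11 * 40320 by norm_num, Nat.factorization_mul (by norm_num) (by norm_num),
        Finsupp.add_apply, (by norm_num : Nat.Prime 11).factorization_self,
        Nat.factorization_eq_zero_of_not_dvd (by norm_num)]
  let P : Sylow p Spor.M22 := Sylow.ofCard (Subgroup.zpowers c) (by rw [Nat.card_zpowers, hcp, hfac])
  obtain ⟨Q, hQ⟩ := IsPGroup.exists_le_sylow (IsPGroup.of_card (p := p) (n := 1)
    (G := Subgroup.zpowers g) (by rw [Nat.card_zpowers, hg, pow_one]))
  obtain ⟨k, rfl⟩ := MulAction.exists_smul_eq Spor.M22 P Q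
  obtain ⟨w, hw, hwg⟩ := hQ (Subgroup.mem_zpowers g)
  have hwg' : g = k * w * k⁻¹ := hwg.symm
  have hwo : orderOf w = p := by
    rw [← hg, hwg']
    exact (orderOf_injective (MulAut.conj k).toMonoidHom (MulAut.conj k).injective w).symm
  have hzp : Subgroup.zpowers w = Subgroup.zpowers c :=
    Subgroup.eq_of_le_of_card_ge (Subgroup.zpowers_le.2 hw)
      (by rw [Nat.card_zpowers, Nat.card_zpowers, hwo, hcp])
  obtain ⟨a, ha⟩ := (mem_powers_iff_mem_zpowers.2 (hzp ▸ Subgroup.mem_zpowers w :
    w ∈ Subgroup.zpowers c))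
  obtain ⟨b, hb⟩ := (mem_powers_iff_mem_zpowers.2 (hzp.symm ▸ Subgroup.mem_zpowers c :
    c ∈ Subgroup.zpowers w))
  have e1 : fixOf c.1 = fixOf w.1 := by
    refine Finset.Subset.antisymm ?_ ?_
    · rw [← ha, SubmonoidClass.coe_pow]; exact fixOf_subset_pow _ _
    · conv_rhs => rw [← hb, SubmonoidClass.coe_pow]
      exact fixOf_subset_pow _ _
  rw [hwg', Subgroup.coe_mul, Subgroup.coe_mul, Subgroup.coe_inv, card_fixOf_conj, ← e1, hcfix]

theorem none_zero_mem (g : Spor.M22) : ({none, some 0} : Finset GolayPt) ⊆ fixOf g.1 := fun p hp => by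
  simp only [Finset.mem_insert, Finset.mem_singleton] at hp
  rcases hp with rfl | rfl
  · exact mem_fixOf.2 (mem_M22.1 g.2).2.1
  · exact mem_fixOf.2 (mem_M22.1 g.2).2.2

theorem fix_card_two {g : Spor.M22} (hg : orderOf g = 2) :
    (fixOf g.1).card = 8 ∧ ∃ h ∈ M24, g.1 = h * permOf r2a * h⁻¹ := by
  rcases two_classes (mem_M22.1 g.2).1 (by rw [Subgroup.orderOf_coe]; exact hg) with h | ⟨h, -⟩
  · exact h
  · exact absurd (Finset.card_eq_zero.1 h) (Finset.ne_empty_of_mem
      (a := none) (none_zero_mem g (by simp)))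

theorem fix_card_three {g : Spor.M22} (hg : orderOf g = 3) : (fixOf g.1).card = 6 := by
  rcases three_classes (mem_M22.1 g.2).1 (by rw [Subgroup.orderOf_coe]; exact hg) with h | ⟨h, -⟩
  · exact h.1
  · exact absurd (Finset.card_eq_zero.1 h) (Finset.ne_empty_of_mem
      (a := none) (none_zero_mem g (by simp)))

theorem prime_cases {q : ℕ} (hq : q.Prime) (hd : q ∣ 443520) : q ∈ [2, 3, 5, 7, 11] := by
  rw [show (443520 : ℕ) = 2 ^ 7 * (3 ^ 2 * (5 * (7 * 11))) by norm_num] at hd
  simp only [List.mem_cons, List.not_mem_nil, or_false]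
  rcases (Nat.Prime.dvd_mul hq).1 hd with h | h
  · exact Or.inl ((Nat.prime_dvd_prime_iff_eq hq Nat.prime_two).1 (hq.dvd_of_dvd_pow h))
  rcases (Nat.Prime.dvd_mul hq).1 h with h | h
  · exact Or.inr (Or.inl ((Nat.prime_dvd_prime_iff_eq hq Nat.prime_three).1 (hq.dvd_of_dvd_pow h)))
  rcases (Nat.Prime.dvd_mul hq).1 h with h | h
  · exact Or.inr (Or.inr (Or.inl ((Nat.prime_dvd_prime_iff_eq hq (by norm_num)).1 h)))
  rcases (Nat.Prime.dvd_mul hq).1 h with h | h
  · exact Or.inr (Or.inr (Or.inr (Or.inl ((Nat.prime_dvd_prime_iff_eq hq (by norm_num)).1 h))))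
  · exact Or.inr (Or.inr (Or.inr (Or.inr ((Nat.prime_dvd_prime_iff_eq hq (by norm_num)).1 h))))

/-- The number of points fixed by an element of prime order. -/
theorem fix_card {q : ℕ} (hq : q.Prime) {g : Spor.M22} (hg : orderOf g = q) :
    (fixOf g.1).card = fixNum q := by
  have h := prime_cases hq (hg ▸ M22_card ▸ orderOf_dvd_natCard g)
  simp only [List.mem_cons, List.not_mem_nil, or_false] at h
  rcases h with rfl | rfl | rfl | rfl | rfl
  · exact (fix_card_two hg).1
  · exact fix_card_three hg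
  · exact fix_card_large (by simp) hg
  · exact fix_card_large (by simp) hg
  · exact fix_card_large (by simp) hg

/-- Nontrivial elements fix at most eight points. -/
theorem eq_one_of_fix {g : Spor.M22} (h : 9 ≤ (fixOf g.1).card) : g = 1 := by
  by_contra hne
  have h1 : orderOf g ≠ 1 := fun e => hne (orderOf_eq_one_iff.1 e)
  have hq := Nat.minFac_prime h1
  have hd := Nat.minFac_dvd (orderOf g)
  have ho : orderOf (g ^ (orderOf g / (orderOf g).minFac)) = (orderOf g).minFac :=
    orderOf_pow_orderOf_div (orderOf_pos g).ne' hd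
  have hf := fix_card hq ho
  have hsub := Finset.card_le_card (fixOf_subset_pow g.1 (orderOf g / (orderOf g).minFac))
  rw [← SubmonoidClass.coe_pow, hf] at hsub
  have : fixNum (orderOf g).minFac ≤ 8 := by unfold fixNum; split_ifs <;> norm_num
  omega

/-- A permutation of prime order acts on the fixed points of a commuting one. -/
theorem commute_fix_modEq {p : ℕ} [Fact p.Prime] {x y : Equiv.Perm GolayPt} (hx : x ^ p = 1)
    (hc : Commute x y) : (fixOf y).card ≡ (fixOf y ∩ fixOf x).card [MOD p] := by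
  classical
  have hiff : ∀ a, y (x a) = x a ↔ y a = a := fun a => by
    rw [← Equiv.Perm.mul_apply, ← hc.eq, Equiv.Perm.mul_apply, x.injective.eq_iff]
  let σ : Equiv.Perm {a // y a = a} := x.subtypePerm hiff
  have hσ : σ ^ p ^ 1 = 1 := by
    rw [pow_one, Equiv.Perm.subtypePerm_pow]
    ext a
    simp [hx]
  have h := Equiv.Perm.card_compl_support_modEq hσ
  have e1 : Fintype.card {a // y a = a} = (fixOf y).card := Fintype.card_subtype _
  have e2 : σ.supportᶜ.card = (fixOf y ∩ fixOf x).card := by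
    refine Finset.card_bij (fun a _ => a.1) (fun a ha => ?_) (fun a _ b _ e => Subtype.ext e)
      (fun b hb => ?_)
    · rw [Finset.mem_compl, Equiv.Perm.notMem_support] at ha
      exact Finset.mem_inter.2 ⟨mem_fixOf.2 a.2, mem_fixOf.2 (congrArg Subtype.val ha)⟩
    · obtain ⟨h1, h2⟩ := Finset.mem_inter.1 hb
      exact ⟨⟨b, mem_fixOf.1 h1⟩, by
        rw [Finset.mem_compl, Equiv.Perm.notMem_support]; exact Subtype.ext (mem_fixOf.1 h2), rfl⟩
  rw [e1, e2] at h
  exact h.symm

theorem arith : ∀ p ∈ [5, 7, 11], ∀ q ∈ [2, 3, 5, 7, 11], p ≠ q → ∀ m < 9,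
    ¬ (2 ≤ m ∧ m ≤ fixNum p ∧ m ≤ fixNum q ∧ fixNum q % p = m % p ∧ fixNum p % q = m % q) := by
  decide +kernel

/-- Commuting elements of prime order. -/
theorem not_commute {p q : ℕ} (hp : p ∈ [5, 7, 11]) (hpp : p.Prime) (hq : q.Prime) (hne : p ≠ q)
    {x y : Spor.M22} (hx : orderOf x = p) (hy : orderOf y = q) : ¬ Commute x y := by
  intro hc
  haveI := Fact.mk hpp
  haveI := Fact.mk hq
  have hc' : Commute x.1 y.1 := congrArg Subtype.val hc
  have h1 := commute_fix_modEq (p := p) (x := x.1) (y := y.1)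
    (by rw [← hx, ← Subgroup.orderOf_coe]; exact pow_orderOf_eq_one _) hc'
  have h2 := commute_fix_modEq (p := q) (x := y.1) (y := x.1)
    (by rw [← hy, ← Subgroup.orderOf_coe]; exact pow_orderOf_eq_one _) hc'.symm
  rw [Finset.inter_comm (fixOf x.1)] at h2
  rw [fix_card hq hy] at h1
  rw [fix_card hpp hx] at h2
  have hm2 : 2 ≤ (fixOf y.1 ∩ fixOf x.1).card :=
    le_trans (show 2 ≤ ({none, some 0} : Finset GolayPt).card by simp)
      (Finset.card_le_card (Finset.subset_inter (none_zero_mem y) (none_zero_mem x)))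
  have hmp : (fixOf y.1 ∩ fixOf x.1).card ≤ fixNum p :=
    fix_card hpp hx ▸ Finset.card_le_card Finset.inter_subset_right
  have hmq : (fixOf y.1 ∩ fixOf x.1).card ≤ fixNum q :=
    fix_card hq hy ▸ Finset.card_le_card Finset.inter_subset_left
  have h8 : fixNum q ≤ 8 := by unfold fixNum; split_ifs <;> norm_num
  exact arith p hp q (prime_cases hq (hy ▸ M22_card ▸ orderOf_dvd_natCard y)) hne _ (by omega)
    ⟨hm2, hmp, hmq, h1, h2⟩

/-- The Sylow subgroups for five, seven and eleven. -/
theorem sylow_facts {p m n : ℕ} [hpF : Fact p.Prime] (hp : p ∈ [5, 7, 11]) (hm : 443520 = p * m)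
    (hpm : ¬ p ∣ m) (harith : ∀ d ∈ (p * (p - 1)).divisors, d ∣ p * m → p * m / d % p = 1 → d = n)
    (P : Sylow p Spor.M22) :
    Nat.card (P : Subgroup Spor.M22) = p ∧ Nat.card (Sylow p Spor.M22) * n = 443520 := by
  have hcard : Nat.card Spor.M22 = p * m := M22_card.trans hm
  have hPc : Nat.card (P : Subgroup Spor.M22) = p := by
    have := (SmallOrder.sylow_arith P (a := 1) (m := m) (by rw [pow_one, hcard]) hpm).1
    simpa using this
  have hC : Nat.card (Subgroup.centralizer ((P : Subgroup Spor.M22) : Set Spor.M22)) ≤ p := by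
    obtain ⟨⟨x, hxP⟩, hx⟩ := exists_prime_orderOf_dvd_card' (G := (P : Subgroup Spor.M22)) p
      (by rw [hPc])
    have hxo : orderOf x = p := (Subgroup.orderOf_coe (⟨x, hxP⟩ : (P : Subgroup Spor.M22))).trans hx
    set C := Subgroup.centralizer ((P : Subgroup Spor.M22) : Set Spor.M22)
    have honly : ∀ {q : ℕ}, q.Prime → q ∣ Nat.card C → q = p := by
      intro q hq hd
      haveI := Fact.mk hq
      obtain ⟨⟨y, hyC⟩, hy⟩ := exists_prime_orderOf_dvd_card' (G := C) q hd
      have hyo : orderOf y = q := (Subgroup.orderOf_coe (⟨y, hyC⟩ : C)).trans hy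
      exact not_not.1 fun hne => not_commute hp hpF.out hq (Ne.symm hne) hxo hyo
        (Subgroup.mem_centralizer_iff.1 hyC x hxP)
    have h := Nat.eq_prime_pow_of_unique_prime_dvd (n := Nat.card C) Nat.card_pos.ne' @honly
    have hd : Nat.card C ∣ p * m := hcard ▸ Subgroup.card_subgroup_dvd_card C
    rw [h] at hd ⊢
    rcases Nat.lt_or_ge 1 (Nat.card C).primeFactorsList.length with hl | hl
    · exfalso
      have h2 : p * p ∣ p * m := dvd_trans (by
        rw [← pow_two]; exact pow_dvd_pow p hl) hd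
      exact hpm ((Nat.mul_dvd_mul_iff_left hpF.out.pos).1 h2)
    · exact (Nat.pow_le_pow_right hpF.out.pos hl).trans (pow_one p).le
  obtain ⟨-, hN⟩ := card_normalizer_of_centralizer (n := n) hpF.out hcard hpm P hC harith
  have := (card_normalizer_dvd P hPc hC).2
  rw [hN, M22_card] at this
  exact ⟨hPc, by rw [mul_comm, this]⟩

/-- The pointwise stabiliser of the fixed points of `r2a`. -/
def fixCodes : List ℕ := [984818244535754528103549039458486304,
  753760327311883219526042511453817455, 944577648981353956304886528869501163,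
  457799586882680961675875804400159062, 635636179365877187316737350061623730,
  292944086264675745702902904550165194, 51502845180246904822915943425477361,
  15156564187211339815387090711054903, 266982876523929183207517619668224300,
  438328589372185342869286362511673703, 524002003256017949821260198029920390,
  190396354337017845046653000940095881, 394194111491942402222230117755750596,
  805684140250351172737481408328600141, 548664554551502171503149751887563251,
  720010940336718148064555317766227969]

/-- The check on these codes. -/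
def codesOK : Bool :=
  fixCodes.all (fun c => isAut c && sqB c r2a r2a c &&
    ((List.range 24).all fun i => !(app r2a i == i) || app c i == i) &&
    fixCodes.all fun d => sqB c d d c) &&
  ((List.range 24).all fun i => app r2a i == i || fixCodes.any fun c => app c 0 == i) &&
  !(app r2a 0 == 0)

theorem codes_ok : codesOK = true := by decide +kernel

/-- Centralisers of involutions are 2-constrained. -/
theorem involution_local (z : Spor.M22) (hz : orderOf z = 2) :
    ∃ Q : Subgroup (Subgroup.centralizer ({z} : Set Spor.M22)), Q.Normal ∧ IsPGroup 2 Q ∧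
      Subgroup.centralizer (Q : Set (Subgroup.centralizer ({z} : Set Spor.M22))) ≤ Q := by
  classical
  obtain ⟨h8, h, hh, hconj⟩ := fix_card_two hz
  set C := Subgroup.centralizer ({z} : Set Spor.M22)
  have hcomm : ∀ d : C, ∀ a, z.1 a = a → z.1 (d.1.1 a) = d.1.1 a := fun d a ha => by
    have e : d.1.1 * z.1 = z.1 * d.1.1 :=
      congrArg Subtype.val (Subgroup.mem_centralizer_singleton_iff.1 d.2)
    rw [← Equiv.Perm.mul_apply, ← e, Equiv.Perm.mul_apply, ha]
  let Q : Subgroup C :=
    { carrier := {d | ∀ a, z.1 a = a → d.1.1 a = a}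
      mul_mem' := fun {d e} hd he a ha => by
        show d.1.1 (e.1.1 a) = a
        rw [he a ha, hd a ha]
      one_mem' := fun _ _ => rfl
      inv_mem' := fun {d} hd a ha => by
        show d.1.1⁻¹ a = a
        rw [Equiv.Perm.inv_eq_iff_eq, hd a ha] }
  refine ⟨Q, ⟨fun d hd e a ha => ?_⟩, ?_, ?_⟩
  · show e.1.1 (d.1.1 (e.1.1⁻¹ a)) = a
    rw [hd (e.1.1⁻¹ a) (hcomm e⁻¹ a ha), ← Equiv.Perm.mul_apply, mul_inv_cancel]
    rfl
  · have hor : ∀ {q : ℕ}, q.Prime → q ∣ Nat.card Q → q = 2 := by
      intro q hq hd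
      haveI := Fact.mk hq
      obtain ⟨⟨d, hdQ⟩, hdo⟩ := exists_prime_orderOf_dvd_card' (G := Q) q hd
      have ho : orderOf d.1 = q := (Subgroup.orderOf_coe d).trans ((Subgroup.orderOf_coe (⟨d, hdQ⟩ : Q)).trans hdo)
      have hf := fix_card hq ho
      have hsub : fixOf z.1 ⊆ fixOf d.1.1 := fun a ha => mem_fixOf.2 (hdQ a (mem_fixOf.1 ha))
      have hle := Finset.card_le_card hsub
      rw [show (fixOf z.1).card = 8 from h8, hf] at hle
      by_contra h2
      unfold fixNum at hle
      rw [if_neg h2] at hle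
      split_ifs at hle <;> omega
    exact IsPGroup.of_card (Nat.eq_prime_pow_of_unique_prime_dvd Nat.card_pos.ne' @hor)
  · intro g hg
    have hok := codes_ok
    simp only [codesOK, Bool.and_eq_true, List.all_eq_true, List.any_eq_true, Bool.or_eq_true,
      Bool.not_eq_true', beq_iff_eq, beq_eq_false_iff_ne, List.mem_range] at hok
    obtain ⟨⟨hcod, htr⟩, hv0⟩ := hok
    have hr := (rep_fix (r := r2a) (by simp)).1
    have hzfix : ∀ a, z.1 a = a ↔ app r2a (idx (h⁻¹ a)) = idx (h⁻¹ a) := fun a => by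
      rw [hconj, ← idx_permOf hr, idx_injective.eq_iff]
      simp only [Equiv.Perm.mul_apply]
      conv_rhs => rw [← h.injective.eq_iff]
      simp
    have hlift : ∀ c ∈ fixCodes, ∃ q : C, q ∈ Q ∧ q.1.1 = h * permOf c * h⁻¹ := by
      intro c hc
      obtain ⟨⟨⟨hA, hsq⟩, hfix⟩, -⟩ := hcod c hc
      have hok := permOK_of_isAut hA
      have hQ : ∀ a, z.1 a = a → (h * permOf c * h⁻¹) a = a := fun a ha => by
        have h1 := (hfix _ (idx_lt _)).resolve_left (fun e => e ((hzfix a).1 ha))
        have h2 : permOf c (h⁻¹ a) = h⁻¹ a := idx_injective (by rw [idx_permOf hok]; exact h1)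
        simp only [Equiv.Perm.mul_apply, h2]
        simp
      have hM : h * permOf c * h⁻¹ ∈ Spor.M22 := mem_M22.2
        ⟨mul_mem (mul_mem hh (permOf_mem_M24 hA)) (inv_mem hh),
          hQ _ (mem_M22.1 z.2).2.1, hQ _ (mem_M22.1 z.2).2.2⟩
      have hcz : (⟨_, hM⟩ : Spor.M22) ∈ C := Subgroup.mem_centralizer_singleton_iff.2 (Subtype.ext (by
        show h * permOf c * h⁻¹ * z.1 = z.1 * (h * permOf c * h⁻¹)
        have := (sqB_iff hok hr hr hok).1 hsq
        rw [hconj, show h * permOf c * h⁻¹ * (h * permOf r2a * h⁻¹) =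
          h * (permOf c * permOf r2a) * h⁻¹ by group, this]
        group))
      exact ⟨⟨_, hcz⟩, hQ, rfl⟩
    set v : GolayPt := h (pt 0) with hv
    have hzv : z.1 v ≠ v := fun e => hv0 (by
      have := (hzfix v).1 e
      rwa [hv, Equiv.Perm.inv_def, Equiv.symm_apply_apply, idx_pt (by norm_num)] at this)
    have horb : ∀ a, z.1 a ≠ a → ∃ c ∈ fixCodes, (h * permOf c * h⁻¹) v = a := fun a ha => by
      obtain ⟨c, hc, e⟩ := (htr _ (idx_lt (h⁻¹ a))).resolve_left fun e => ha ((hzfix a).2 e)
      refine ⟨c, hc, ?_⟩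
      have hok := permOK_of_isAut (hcod c hc).1.1.1
      have h2 : permOf c (pt 0) = h⁻¹ a := idx_injective (by
        rw [idx_permOf hok, idx_pt (by norm_num)]; exact e)
      rw [hv]
      simp [h2]
    have hgv : z.1 (g.1.1 v) ≠ g.1.1 v := fun e => hzv (by
      have := hcomm g⁻¹ _ e
      simpa using this)
    obtain ⟨c, hc, hcv⟩ := horb _ hgv
    obtain ⟨q, hqQ, hqe⟩ := hlift c hc
    rw [← hqe] at hcv
    have hall : ∀ a, z.1 a ≠ a → (q⁻¹ * g).1.1 a = a := fun a ha => by
      obtain ⟨d, hd, hdv⟩ := horb a ha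
      obtain ⟨r, hrQ, hre⟩ := hlift d hd
      rw [← hre] at hdv
      have hrg : r.1.1 * g.1.1 = g.1.1 * r.1.1 :=
        congrArg (fun w : C => w.1.1) (Subgroup.mem_centralizer_iff.1 hg r hrQ)
      have hrq : r.1.1 * q.1.1 = q.1.1 * r.1.1 := by
        have := (sqB_iff (permOK_of_isAut (hcod d hd).1.1.1) (permOK_of_isAut (hcod c hc).1.1.1)
          (permOK_of_isAut (hcod c hc).1.1.1) (permOK_of_isAut (hcod d hd).1.1.1)).1
          ((hcod d hd).2 c hc)
        rw [hre, hqe, show h * permOf d * h⁻¹ * (h * permOf c * h⁻¹) =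
          h * (permOf d * permOf c) * h⁻¹ by group, this]
        group
      show q.1.1⁻¹ (g.1.1 a) = a
      rw [Equiv.Perm.inv_eq_iff_eq, ← hdv, ← Equiv.Perm.mul_apply, ← hrg, Equiv.Perm.mul_apply,
        ← hcv, ← Equiv.Perm.mul_apply, hrq, Equiv.Perm.mul_apply]
    have h16 : 9 ≤ (fixOf (q⁻¹ * g).1.1).card := by
      have hsub : (fixOf z.1)ᶜ ⊆ fixOf (q⁻¹ * g).1.1 := fun a ha =>
        mem_fixOf.2 (hall a fun e => Finset.mem_compl.1 ha (mem_fixOf.2 e))
      have := Finset.card_le_card hsub
      rw [Finset.card_compl, show (fixOf z.1).card = 8 from h8, card_golayPt] at this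
      omega
    have : q⁻¹ * g = 1 := Subtype.ext (eq_one_of_fix h16)
    rw [inv_mul_eq_one] at this
    exact this ▸ hqQ

end Cfsg.Agent.FGS4.SingleBlock.M22
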